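import Groth.Agent.H78.Formal.Principal
import Groth.Agent.Lib.Curves.LES
import Groth.Agent.H22.Completion
import Groth.Agent.Lib.Adic.Complete

/-!
# Preliminaries for the theorem on formal functions
-/

set_option linter.style.haveILetI false

universe u

open CategoryTheory Limits AlgebraicGeometry Opposite TopologicalSpace

namespace Groth.Agent.H78.FormalFun.Basic

open Groth.Agent.Lib Groth.Agent.H78.Formal.Sections Groth.Agent.Lib.Curves.LES
open Groth.Agent.H78.Formal.Principal (pr smulMod_mul mem_pow exists_eq)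

variable {A : Type u} [CommRing A] {X : Scheme.{u}} [X.Over (Spec (CommRingCat.of A))]

lemma smulMod_one (M : X.Modules) : _root_.Formal.smulMod A M 1 = 𝟙 M :=
  Scheme.Modules.hom_ext _ _ fun U => ConcreteCategory.ext_apply fun s => by
    change sMap A U 1 • s = s
    rw [map_one, one_smul]

lemma smulMod_zero (M : X.Modules) : _root_.Formal.smulMod A M 0 = 0 :=
  Scheme.Modules.hom_ext _ _ fun U => ConcreteCategory.ext_apply fun s => by
    change sMap A U 0 • s = 0
    rw [map_zero, zero_smul]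

lemma smulMod_add (M : X.Modules) (a b : A) :
    _root_.Formal.smulMod A M (a + b) = _root_.Formal.smulMod A M a + _root_.Formal.smulMod A M b :=
  Scheme.Modules.hom_ext _ _ fun U => ConcreteCategory.ext_apply fun s => by
    change sMap A U (a + b) • s = sMap A U a • s + sMap A U b • s
    rw [map_add, add_smul]

/-- The elements killed by `φ`, as an ideal. -/
noncomputable def annHom {M N : X.Modules} (φ : M ⟶ N) : Ideal A where
  carrier := {a | _root_.Formal.smulMod A M a ≫ φ = 0}
  add_mem' {a b} (ha : _root_.Formal.smulMod A M a ≫ φ = 0) (hb : _root_.Formal.smulMod A M b ≫ φ = 0) := by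
    show _root_.Formal.smulMod A M (a + b) ≫ φ = 0
    rw [smulMod_add, Preadditive.add_comp, ha, hb, add_zero]
  zero_mem' := by
    show _root_.Formal.smulMod A M 0 ≫ φ = 0
    rw [smulMod_zero, zero_comp]
  smul_mem' r a (ha : _root_.Formal.smulMod A M a ≫ φ = 0) := by
    show _root_.Formal.smulMod A M (r * a) ≫ φ = 0
    rw [smulMod_mul, Category.assoc, ha, comp_zero]

lemma mem_annHom {M N : X.Modules} {φ : M ⟶ N} {a : A} :
    a ∈ annHom φ ↔ _root_.Formal.smulMod A M a ≫ φ = 0 := Iff.rfl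

lemma le_annHom_π (I : Ideal A) (n : ℕ) (M : X.Modules) :
    I ^ n ≤ annHom (_root_.Formal.modPowπ I n M) := fun _ ha => smulMod_π (I ^ n) M ha

lemma annHom_le_comp {M N P : X.Modules} (φ : M ⟶ N) (ψ : N ⟶ P) :
    annHom (A := A) φ ≤ annHom (φ ≫ ψ) := fun a ha => by
  rw [mem_annHom] at ha ⊢
  rw [← Category.assoc, ha, zero_comp]

lemma annHom_le_comp' {M N P : X.Modules} (φ : M ⟶ N) (ψ : N ⟶ P) :
    annHom (A := A) ψ ≤ annHom (φ ≫ ψ) := fun a ha => by
  rw [mem_annHom] at ha ⊢
  rw [← Category.assoc, smulMod_comp, Category.assoc, ha, comp_zero]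

/-- A morphism killing `I^n` factors through `M/I^n M`. -/
lemma exists_desc {I : Ideal A} {n : ℕ} {M N : X.Modules} (φ : M ⟶ N) (h : I ^ n ≤ annHom φ) :
    ∃ ψ : _root_.Formal.modPow I n M ⟶ N, _root_.Formal.modPowπ I n M ≫ ψ = φ := by
  have h0 : _root_.Formal.smulFamily (I ^ n) M ≫ φ = 0 := by
    apply Sigma.hom_ext
    intro a
    rw [_root_.Formal.smulFamily, Sigma.ι_desc_assoc, comp_zero]
    exact h a.2
  exact ⟨cokernel.desc _ φ h0, cokernel.π_desc _ _ _⟩

instance epi_π (I : Ideal A) (n : ℕ) (M : X.Modules) : Epi (_root_.Formal.modPowπ I n M) :=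
  inferInstanceAs (Epi (cokernel.π _))

/-! ### Cohomology -/

/-- The map on cohomology induced by a morphism of modules. -/
noncomputable abbrev H (p : ℕ) {M N : X.Modules} (φ : M ⟶ N) :
    Coh.HH X M p →ₗ[A] Coh.HH X N p := mapK A φ p

lemma H_comp (p : ℕ) {M N P : X.Modules} (φ : M ⟶ N) (ψ : N ⟶ P) (x : Coh.HH X M p) :
    H (A := A) p (φ ≫ ψ) x = H (A := A) p ψ (H (A := A) p φ x) :=
  LinearMap.congr_fun (mapK_comp A φ ψ p) x

lemma H_zero (p : ℕ) {M N : X.Modules} (x : Coh.HH X M p) :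
    H (A := A) p (0 : M ⟶ N) x = 0 := by
  have h0 : toAbMap (0 : M ⟶ N) = 0 := (F X).map_zero M N
  show Sheaf.H.map (toAbMap (0 : M ⟶ N)) p x = 0
  rw [h0, Sheaf.H.map_apply, Abelian.Ext.mk₀_zero, Abelian.Ext.comp_zero]

lemma toAbMap_smulMod (M : X.Modules) (a : A) :
    toAbMap (_root_.Formal.smulMod A M a) =
      Coh.smulAb M (Coh.toGlobal (X ↘ Spec (CommRingCat.of A)) a) := by
  ext U m
  rfl

lemma H_smulMod (p : ℕ) (M : X.Modules) (a : A) (x : Coh.HH X M p) :
    H (A := A) p (_root_.Formal.smulMod A M a) x = a • x := by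
  show Sheaf.H.map (toAbMap (_root_.Formal.smulMod A M a)) p x = _
  rw [toAbMap_smulMod]
  rfl

/-- The class of modules to which the theorem applies. -/
structure Good (A : Type u) [CommRing A] {X : Scheme.{u}} [X.Over (Spec (CommRingCat.of A))]
    (C : X.Modules → Prop) : Prop where
  coh : ∀ {M}, C M → Coh.IsCoh M
  qfin : ∀ {M}, C M → ∀ p, Module.Finite A (Coh.HH X M p)
  sub : ∀ {M N} (φ : N ⟶ M) [Mono φ], Coh.IsCoh N → C M → C N
  quot : ∀ {M N} (φ : M ⟶ N) [Epi φ], Coh.IsCoh N → C M → C N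

lemma Good.modPow {C : X.Modules → Prop} (hC : Good A C) (I : Ideal A) (n : ℕ) {M : X.Modules}
    (hM : C M) : C (_root_.Formal.modPow I n M) :=
  hC.quot (_root_.Formal.modPowπ I n M) (isCoh_modPow I n (hC.coh hM)) hM

/-! ### Torsion is bounded -/

theorem exists_bound [IsNoetherian X] {M : X.Modules} (hM : Coh.IsCoh M) (f : A) :
    ∃ N : ℕ, kernel.ι (_root_.Formal.smulMod A M (f ^ (N + 1))) ≫
      _root_.Formal.smulMod A M (f ^ N) = 0 := by
  haveI := hM.1
  have hmono : ∀ (U : X.Opens) (m n : ℕ), m ≤ n →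
      (∀ s : Γ(M, U), sMap A U f ^ (m + 1) • s = 0 → sMap A U f ^ m • s = 0) →
      ∀ s : Γ(M, U), sMap A U f ^ (n + 1) • s = 0 → sMap A U f ^ n • s = 0 := by
    intro U m n hmn h
    induction hmn with
    | refl => exact h
    | @step n _ ih =>
      intro s hs
      have := ih (sMap A U f • s) (by rwa [smul_smul, ← pow_succ])
      rwa [smul_smul, ← pow_succ] at this
  obtain ⟨N, hN⟩ := exists_uniform (fun U n => ∀ s : Γ(M, U),
      sMap A U f ^ (n + 1) • s = 0 → sMap A U f ^ n • s = 0) hmono (fun U hU => by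
    haveI := CohBasics.Closure.finite_sections hM hU
    haveI : IsNoetherianRing Γ(X, U) := IsLocallyNoetherian.component_noetherian ⟨U, hU⟩
    let c : ℕ →o Submodule Γ(X, U) Γ(M, U) :=
      ⟨fun n => LinearMap.ker (LinearMap.lsmul Γ(X, U) Γ(M, U) (sMap A U f ^ n)),
        monotone_nat_of_le_succ fun n s hs => by
          rw [LinearMap.mem_ker, LinearMap.lsmul_apply] at hs ⊢
          rw [pow_succ', ← smul_smul, hs, smul_zero]⟩
    obtain ⟨n, hn⟩ := monotone_stabilizes_iff_noetherian.mpr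
      (inferInstance : _root_.IsNoetherian Γ(X, U) Γ(M, U)) c
    refine ⟨n, fun s hs => ?_⟩
    have : s ∈ c n := hn (n + 1) n.le_succ ▸ (show s ∈ c (n + 1) from LinearMap.mem_ker.mpr hs)
    exact LinearMap.mem_ker.mp this)
  haveI := (CohBasics.Closure.isCoh_kernel (_root_.Formal.smulMod A M (f ^ (N + 1))) hM hM.1).1
  refine ⟨N, eq_zero_of_cover _ fun x => ?_⟩
  obtain ⟨U, hU, hx, h⟩ := hN x
  refine ⟨U, hU, hx, fun s => ?_⟩
  rw [Scheme.Modules.Hom.comp_app]
  change (_root_.Formal.smulMod A M (f ^ N)).app U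
    ((kernel.ι (_root_.Formal.smulMod A M (f ^ (N + 1)))).app U s) = 0
  rw [smulMod_app, map_pow]
  refine h _ ?_
  rw [← map_pow, ← smulMod_app]
  exact congr(Scheme.Modules.Hom.app $(kernel.condition (_root_.Formal.smulMod A M (f ^ (N + 1)))) U s)

/-- For large `N` multiplication by `f` is injective on `f^(N+1) M`. -/
theorem exists_mono [IsNoetherian X] {M : X.Modules} (hM : Coh.IsCoh M) (f : A) :
    ∃ N : ℕ, Mono (_root_.Formal.smulMod A (Abelian.image (_root_.Formal.smulMod A M (f ^ (N + 1)))) f) := by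
  obtain ⟨N, hN⟩ := exists_bound hM f
  refine ⟨N, Preadditive.mono_of_cancel_zero _ fun {T} g hg => ?_⟩
  let e := Abelian.factorThruImage (_root_.Formal.smulMod A M (f ^ (N + 1)))
  obtain ⟨T', r, hr, h, hh⟩ := surjective_up_to_refinements_of_epi e g
  rw [← cancel_epi r, comp_zero, ← cancel_mono (Abelian.image.ι _), zero_comp, hh, Category.assoc,
    Abelian.image.fac]
  have h2 : (h ≫ _root_.Formal.smulMod A M f) ≫ _root_.Formal.smulMod A M (f ^ (N + 1)) = 0 := by
    rw [Category.assoc, smulMod_comp, ← Abelian.image.fac (_root_.Formal.smulMod A M (f ^ (N + 1))),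
      Category.assoc e, ← smulMod_comp (Abelian.image.ι _) f, ← Category.assoc, ← Category.assoc,
      show h ≫ e = r ≫ g from hh.symm, Category.assoc r, hg, comp_zero, zero_comp]
  have h3 := congrArg (kernel.lift (_root_.Formal.smulMod A M (f ^ (N + 1))) _ h2 ≫ ·) hN
  simp only [comp_zero, kernel.lift_ι_assoc, Category.assoc] at h3
  rw [pow_succ', smulMod_mul]
  exact h3

end Groth.Agent.H78.FormalFun.Basic
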