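import Groth.Agent.H78.FormalFun.Basic

/-!
# Formal functions for a principal ideal
-/

set_option linter.style.haveILetI false

universe u

open CategoryTheory Limits AlgebraicGeometry Opposite TopologicalSpace Abelian

namespace Groth.Agent.H78.FormalFun.Principal

open Groth.Agent.Lib Groth.Agent.H78.Formal.Sections Groth.Agent.Lib.Curves.LES
open Groth.Agent.H78.FormalFun.Basic
open Groth.Agent.H78.Formal.Principal (pr smulMod_mul mem_pow exists_eq)

variable {A : Type u} [CommRing A] {X : Scheme.{u}} [X.Over (Spec (CommRingCat.of A))]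

/-- Naturality of the connecting map, in any abelian category. -/
lemma postcomp_extClass_natural' {C : Type*} [Category C] [Abelian C] [HasExt.{u} C] {Y : C}
    {S S' : ShortComplex C} (hS : S.ShortExact) (hS' : S'.ShortExact) (φ : S ⟶ S') {n n' : ℕ}
    (h : n + 1 = n') (x : Ext Y S.X₃ n) :
    (x.comp (Ext.mk₀ φ.τ₃) (add_zero n)).comp hS'.extClass h =
      (x.comp hS.extClass h).comp (Ext.mk₀ φ.τ₁) (add_zero n') := by
  rw [Ext.comp_assoc_of_second_deg_zero, Ext.comp_assoc_of_third_deg_zero,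
    ShortComplex.ShortExact.extClass_naturality hS hS' φ]

/-- Naturality of the connecting map. -/
lemma δK_natural {S S' : ShortComplex X.Modules} (hS : S.ShortExact) (hS' : S'.ShortExact)
    (φ : S ⟶ S') (n n' : ℕ) (h : n + 1 = n') (x : Coh.HH X S.X₃ n) :
    δK A hS' n n' h (H (A := A) n φ.τ₃ x) = H (A := A) n' φ.τ₁ (δK A hS n n' h x) := by
  have h1 : (abSES.{u} S).ShortExact := shortExact_abSES.{u} hS
  have h2 : (abSES.{u} S').ShortExact := shortExact_abSES.{u} hS'
  exact postcomp_extClass_natural' h1 h2 ((F X).mapShortComplex.map φ) h x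

variable (M : X.Modules) (f : A) (N : ℕ)

/-- The submodule `f^(N+1) M`. -/
noncomputable abbrev B : X.Modules := Abelian.image (_root_.Formal.smulMod A M (f ^ (N + 1)))

/-- The inclusion of `f^(N+1+k) M`, in the shape `f^(N+1) M ⟶ M`. -/
noncomputable def incl (k : ℕ) : B M f N ⟶ M :=
  _root_.Formal.smulMod A (B M f N) (f ^ k) ≫ Abelian.image.ι _

lemma fac_incl (k : ℕ) :
    Abelian.factorThruImage (_root_.Formal.smulMod A M (f ^ (N + 1))) ≫ incl M f N k =
      _root_.Formal.smulMod A M (f ^ (N + k + 1)) := by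
  rw [incl, ← Category.assoc, ← smulMod_comp, Category.assoc, Abelian.image.fac, ← smulMod_mul,
    ← pow_add, show k + (N + 1) = N + k + 1 by omega]

lemma incl_π (k : ℕ) : incl M f N k ≫ _root_.Formal.modPowπ (pr f) (N + k + 1) M = 0 := by
  rw [← cancel_epi (Abelian.factorThruImage (_root_.Formal.smulMod A M (f ^ (N + 1)))), comp_zero,
    ← Category.assoc, fac_incl]
  exact smulMod_π ((pr f) ^ (N + k + 1)) M (mem_pow f)

/-- The sequence `f^(N+1+k) M → M → M/f^(N+1+k) M`. -/
noncomputable def seq (k : ℕ) : ShortComplex X.Modules :=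
  ShortComplex.mk (incl M f N k) (_root_.Formal.modPowπ (pr f) (N + k + 1) M) (incl_π M f N k)

section

variable [Mono (_root_.Formal.smulMod A (B M f N) f)]

lemma seq_shortExact (k : ℕ) : (seq M f N k).ShortExact := by
  haveI := H78.Formal.Principal.mono_pow (B M f N) f k
  haveI : Mono (seq M f N k).f := show Mono (incl M f N k) from mono_comp _ _
  haveI : Epi (seq M f N k).g := epi_π (pr f) (N + k + 1) M
  refine { exact := ShortComplex.exact_of_g_is_cokernel _ ?_ }
  refine CokernelCofork.IsColimit.ofπ' _ _ fun {Z} (φ : M ⟶ Z) hφ => ?_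
  have h : (pr f) ^ (N + k + 1) ≤ annHom φ := fun a ha => by
    obtain ⟨r, rfl⟩ := exists_eq f ha
    refine (annHom φ).mul_mem_left r ?_
    rw [mem_annHom, ← fac_incl M f N k, Category.assoc,
      show incl M f N k ≫ φ = 0 from hφ, comp_zero]
  exact ⟨(exists_desc φ h).choose, (exists_desc φ h).choose_spec⟩

/-- The comparison of consecutive sequences. -/
noncomputable def seqMap (k : ℕ) : seq M f N (k + 1) ⟶ seq M f N k where
  τ₁ := _root_.Formal.smulMod A (B M f N) f
  τ₂ := 𝟙 M
  τ₃ := _root_.Formal.modPowTrans (pr f) (N + k + 1) M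
  comm₁₂ := by
    change _root_.Formal.smulMod A (B M f N) f ≫ incl M f N k = incl M f N (k + 1) ≫ 𝟙 M
    rw [Category.comp_id, incl, incl, ← Category.assoc, ← smulMod_mul, ← pow_succ']
  comm₂₃ := by
    change 𝟙 M ≫ _root_.Formal.modPowπ (pr f) (N + k + 1) M =
      _root_.Formal.modPowπ (pr f) (N + (k + 1) + 1) M ≫ _root_.Formal.modPowTrans (pr f) (N + k + 1) M
    rw [Category.id_comp]
    exact (_root_.Formal.modPowπ_trans (pr f) (N + k + 1) M).symm

end

variable {M f}

lemma H_incl {N : ℕ} (p k : ℕ) (w : Coh.HH X (B M f N) p) :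
    H (A := A) p (incl M f N k) w =
      f ^ k • H (A := A) p (Abelian.image.ι (_root_.Formal.smulMod A M (f ^ (N + 1)))) w := by
  rw [incl, H_comp, H_smulMod]
  exact LinearMap.map_smul _ _ _

/-- A class dying on every `M/f^n M` is divisible by every power of `f`. -/
theorem eq_zero_of_forall (N : ℕ) [Mono (_root_.Formal.smulMod A (B M f N) f)] (p : ℕ) [IsHausdorff (pr f) (Coh.HH X M p)] (x : Coh.HH X M p)
    (hx : ∀ n, H (A := A) p (_root_.Formal.modPowπ (pr f) (n + 1) M) x = 0) : x = 0 := by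
  refine IsHausdorff.haus' (I := pr f) x fun k => SModEq.zero.mpr ?_
  obtain ⟨w, hw⟩ := (exactK₂ A (seq_shortExact M f N k) p x).mp (hx (N + k))
  rw [← hw]
  change H (A := A) p (incl M f N k) w ∈ _
  exact (congrArg (· ∈ _) (H_incl p k w)).mpr (Submodule.smul_mem_smul (mem_pow f) trivial)

theorem exists_lift_of_compat (N : ℕ) [Mono (_root_.Formal.smulMod A (B M f N) f)] (p : ℕ) [IsAdicComplete (pr f) (Coh.HH X M p)]
    [IsHausdorff (pr f) (Coh.HH X (B M f N) (p + 1))]
    (y : ∀ n, Coh.HH X (_root_.Formal.modPow (pr f) (n + 1) M) p)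
    (hy : ∀ n, H (A := A) p (_root_.Formal.modPowTrans (pr f) (n + 1) M) (y (n + 1)) = y n) :
    ∃ x, ∀ n, H (A := A) p (_root_.Formal.modPowπ (pr f) (n + 1) M) x = y n := by
  let z : ℕ → Coh.HH X (B M f N) (p + 1) := fun k =>
    δK A (seq_shortExact M f N k) p (p + 1) rfl (y (N + k))
  have hz : ∀ k, z k = f • z (k + 1) := fun k => by
    have h := δK_natural (A := A) (seq_shortExact M f N (k + 1)) (seq_shortExact M f N k) (seqMap M f N k) p
      (p + 1) rfl (y (N + (k + 1)))
    rw [show H (A := A) p (seqMap M f N k).τ₃ (y (N + (k + 1))) = y (N + k) from hy (N + k)] at h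
    exact h.trans (H_smulMod (p + 1) (B M f N) f _)
  have hz' : ∀ j k, z k = f ^ j • z (k + j) := fun j => by
    induction j with
    | zero => intro k; rw [pow_zero, one_smul]; rfl
    | succ j ih =>
      intro k
      rw [ih k, hz (k + j), smul_smul, ← pow_succ]
      rfl
  have hz0 : ∀ k, z k = 0 := fun k => IsHausdorff.haus' (I := pr f) (z k) fun j =>
    SModEq.zero.mpr (by rw [hz' j k]; exact Submodule.smul_mem_smul (mem_pow f) trivial)
  have hlift : ∀ k, ∃ g : Coh.HH X M p,
      H (A := A) p (_root_.Formal.modPowπ (pr f) (N + k + 1) M) g = y (N + k) := fun k =>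
    (exactK₃ A (seq_shortExact M f N k) p (p + 1) rfl (y (N + k))).mp (hz0 k)
  choose g hg using hlift
  have hstep : ∀ k, g (k + 1) - g k ∈ (pr f) ^ k • (⊤ : Submodule A (Coh.HH X M p)) := fun k => by
    have h0 : H (A := A) p (_root_.Formal.modPowπ (pr f) (N + k + 1) M) (g (k + 1) - g k) = 0 := by
      rw [map_sub, sub_eq_zero]
      refine Eq.trans ?_ (hg k).symm
      rw [← hy (N + k)]
      refine Eq.trans ?_ (congrArg _ (hg (k + 1)))
      refine Eq.trans ?_ (H_comp p _ _ (g (k + 1)))
      exact congrArg (fun φ => H (A := A) p φ (g (k + 1)))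
        (_root_.Formal.modPowπ_trans (pr f) (N + k + 1) M).symm
    obtain ⟨w, hw⟩ := (exactK₂ A (seq_shortExact M f N k) p _).mp h0
    rw [← hw]
    change H (A := A) p (incl M f N k) w ∈ _
    exact (congrArg (· ∈ _) (H_incl p k w)).mpr (Submodule.smul_mem_smul (mem_pow f) trivial)
  have hcauchy : ∀ {m n : ℕ}, m ≤ n →
      g m ≡ g n [SMOD ((pr f) ^ m • ⊤ : Submodule A (Coh.HH X M p))] := by
    intro m n hmn
    induction hmn with
    | refl => exact SModEq.refl _
    | @step n hmn ih =>
      refine ih.trans (SModEq.symm (SModEq.sub_mem.mpr ?_))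
      exact Submodule.smul_mono_left (Ideal.pow_le_pow_right hmn) (hstep n)
  obtain ⟨L, hL⟩ := IsPrecomplete.prec' (I := pr f) g @hcauchy
  refine ⟨L, fun n => ?_⟩
  have hker : ∀ v ∈ ((pr f) ^ (n + 1) • ⊤ : Submodule A (Coh.HH X M p)),
      H (A := A) p (_root_.Formal.modPowπ (pr f) (n + 1) M) v = 0 := fun v hv => by
    refine Submodule.smul_induction_on hv (fun a ha v _ => ?_) (fun v w hv hw => by
      rw [map_add, hv, hw, add_zero])
    rw [← H_smulMod, ← H_comp, le_annHom_π (pr f) (n + 1) M ha, H_zero]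
  have htr : ∀ {m : ℕ} (h : n ≤ m),
      H (A := A) p (Formal2.modPowLE (pr f) (Nat.succ_le_succ h) M) (y m) = y n := by
    intro m h
    induction h with
    | refl =>
      rw [show Formal2.modPowLE (pr f) (Nat.succ_le_succ (le_refl n)) M = 𝟙 _ by
        rw [← cancel_epi (_root_.Formal.modPowπ (pr f) (n + 1) M), Formal2.modPowπ_modPowLE]
        exact (Category.comp_id _).symm]
      exact LinearMap.congr_fun (mapK_id A _ p) _
    | @step m h ih =>
      have e : Formal2.modPowLE (pr f) (Nat.succ_le_succ (Nat.le.step h)) M =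
          _root_.Formal.modPowTrans (pr f) (m + 1) M ≫
            Formal2.modPowLE (pr f) (Nat.succ_le_succ h) M := by
        rw [← cancel_epi (_root_.Formal.modPowπ (pr f) (m + 1 + 1) M), Formal2.modPowπ_modPowLE,
          ← Category.assoc, _root_.Formal.modPowπ_trans, Formal2.modPowπ_modPowLE]
      rw [e, H_comp, hy, ih]
  rw [← htr (show n ≤ N + (n + 1) by omega), ← hg (n + 1)]
  have hd : H (A := A) p (_root_.Formal.modPowπ (pr f) (n + 1) M) (g (n + 1) - L) = 0 :=
    hker _ (SModEq.sub_mem.mp (hL (n + 1)))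
  rw [map_sub, sub_eq_zero] at hd
  rw [← hd]
  refine Eq.trans ?_ (H_comp p _ _ (g (n + 1)))
  exact congrArg (fun φ => H (A := A) p φ (g (n + 1)))
    (Formal2.modPowπ_modPowLE (pr f) _ M).symm

end Groth.Agent.H78.FormalFun.Principal
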