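import Groth.Agent.H78.FormalFun.Induct

/-!
# The Mittag-Leffler form of the theorem on formal functions
-/

set_option linter.style.haveILetI false

universe u

open CategoryTheory Limits AlgebraicGeometry Opposite TopologicalSpace

namespace Groth.Agent.H78.FormalFun.MittagLeffler

open Groth.Agent.Lib Groth.Agent.H78.Formal.Sections Groth.Agent.Lib.Curves.LES
open Groth.Agent.H78.FormalFun.Basic
open Groth.Agent.H78.FormalFun.Principal (B incl incl_π seq seq_shortExact H_incl δK_natural)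
open Groth.Agent.H78.Formal.Principal (pr smulMod_mul mem_pow exists_eq)

variable {A : Type u} [CommRing A] {X : Scheme.{u}} [X.Over (Spec (CommRingCat.of A))]

/-- Classes on a deep reduction lift to `M` modulo a given power of `J`. -/
def ML (C : X.Modules → Prop) (J : Ideal A) : Prop :=
  ∀ (M : X.Modules), C M → ∀ p m : ℕ, ∃ (n : ℕ) (h : m ≤ n),
    ∀ y : Coh.HH X (_root_.Formal.modPow J (n + 1) M) p, ∃ x : Coh.HH X M p,
      H (A := A) p (_root_.Formal.modPowπ J (m + 1) M) x =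
        H (A := A) p (Formal2.modPowLE J (Nat.succ_le_succ h) M) y

lemma modPowLE_refl (J : Ideal A) (m : ℕ) (M : X.Modules) :
    Formal2.modPowLE J (le_refl m) M = 𝟙 (_root_.Formal.modPow J m M) := by
  rw [← cancel_epi (_root_.Formal.modPowπ J m M), Formal2.modPowπ_modPowLE]
  exact (Category.comp_id _).symm

theorem ml_bot (C : X.Modules → Prop) : ML (A := A) C ⊥ := by
  intro M _ p m
  obtain ⟨r, hr⟩ := exists_desc (I := (⊥ : Ideal A)) (n := m + 1) (𝟙 M)
    (by rw [← Ideal.zero_eq_bot, zero_pow m.succ_ne_zero]; exact bot_le)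
  refine ⟨m, le_rfl, fun y => ⟨H (A := A) p r y, ?_⟩⟩
  rw [← H_comp, modPowLE_refl]
  congr 2
  rw [← cancel_epi (_root_.Formal.modPowπ (⊥ : Ideal A) (m + 1) M), ← Category.assoc, hr,
    Category.id_comp, Category.comp_id]

variable {M : X.Modules} {f : A} {N : ℕ}

/-- The comparison of two sequences. -/
noncomputable def seqMapLE (k j : ℕ) : seq M f N (k + j) ⟶ seq M f N k where
  τ₁ := _root_.Formal.smulMod A (B M f N) (f ^ j)
  τ₂ := 𝟙 M
  τ₃ := Formal2.modPowLE (pr f) (show N + k + 1 ≤ N + (k + j) + 1 by omega) M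
  comm₁₂ := by
    change _root_.Formal.smulMod A (B M f N) (f ^ j) ≫ incl M f N k = incl M f N (k + j) ≫ 𝟙 M
    rw [Category.comp_id, incl, incl, ← Category.assoc, ← smulMod_mul, ← pow_add, Nat.add_comm j k]
  comm₂₃ := by
    change 𝟙 M ≫ _root_.Formal.modPowπ (pr f) (N + k + 1) M =
      _root_.Formal.modPowπ (pr f) (N + (k + j) + 1) M ≫ Formal2.modPowLE (pr f) _ M
    rw [Category.id_comp, Formal2.modPowπ_modPowLE]

/-- Torsion in a finite module is bounded. -/
lemma exists_torsion_bound [IsNoetherianRing A] (P : Type u) [AddCommGroup P] [Module A P]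
    [Module.Finite A P] (f : A) : ∃ c : ℕ, ∀ k, ∀ v : P, f ^ k • v = 0 → f ^ c • v = 0 := by
  let c : ℕ →o Submodule A P :=
    ⟨fun n => LinearMap.ker (LinearMap.lsmul A P (f ^ n)),
      monotone_nat_of_le_succ fun n s hs => by
        rw [LinearMap.mem_ker, LinearMap.lsmul_apply] at hs ⊢
        rw [pow_succ', ← smul_smul, hs, smul_zero]⟩
  obtain ⟨n, hn⟩ := monotone_stabilizes_iff_noetherian.mpr
    (inferInstance : _root_.IsNoetherian A P) c
  refine ⟨n, fun k v hv => ?_⟩
  rcases le_total k n with h | h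
  · exact LinearMap.mem_ker.mp (c.mono h (LinearMap.mem_ker.mpr hv))
  · have : v ∈ c n := hn k h ▸ (show v ∈ c k from LinearMap.mem_ker.mpr hv)
    exact LinearMap.mem_ker.mp this

theorem ml_principal_aux [Mono (_root_.Formal.smulMod A (B M f N) f)] [IsNoetherianRing A] (p : ℕ)
    [Module.Finite A (Coh.HH X M (p + 1))] (m : ℕ) :
    ∃ (n : ℕ) (h : m ≤ n),
      ∀ y : Coh.HH X (_root_.Formal.modPow (pr f) (n + 1) M) p, ∃ x : Coh.HH X M p,
        H (A := A) p (_root_.Formal.modPowπ (pr f) (m + 1) M) x =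
          H (A := A) p (Formal2.modPowLE (pr f) (Nat.succ_le_succ h) M) y := by
  obtain ⟨c, hc⟩ := exists_torsion_bound (Coh.HH X M (p + 1)) f
  let d := c + (N + 0 + 1)
  refine ⟨N + (m + d), by omega, fun y => ?_⟩
  let z : Coh.HH X (B M f N) (p + 1) := δK A (seq_shortExact M f N (m + d)) p (p + 1) rfl y
  have hz1 : H (A := A) (p + 1) (incl M f N (m + d)) z = 0 :=
    (exactK₁ A (seq_shortExact M f N (m + d)) p (p + 1) rfl).apply_apply_eq_zero y
  rw [H_incl] at hz1
  have hz2 : H (A := A) (p + 1) (incl M f N 0) (f ^ c • z) = 0 := by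
    rw [H_incl, pow_zero, one_smul, map_smul]
    exact hc _ _ hz1
  obtain ⟨w, hw⟩ : ∃ w : Coh.HH X (_root_.Formal.modPow (pr f) (N + 0 + 1) M) p,
      δK A (seq_shortExact M f N 0) p (p + 1) rfl w = f ^ c • z :=
    (exactK₁ A (seq_shortExact M f N 0) p (p + 1) rfl _).mp hz2
  have hw0 : f ^ (N + 0 + 1) • w = 0 := by
    rw [← H_smulMod]
    have : _root_.Formal.smulMod A (_root_.Formal.modPow (pr f) (N + 0 + 1) M) (f ^ (N + 0 + 1)) = 0 := by
      rw [← cancel_epi (_root_.Formal.modPowπ (pr f) (N + 0 + 1) M), comp_zero, ← smulMod_comp]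
      exact le_annHom_π (pr f) _ M (mem_pow f)
    rw [this, H_zero]
  have hz3 : f ^ d • z = 0 := by
    rw [show d = (N + 0 + 1) + c from Nat.add_comm _ _, pow_add, mul_smul, ← hw]
    refine ((δK A (seq_shortExact M f N 0) p (p + 1) rfl).map_smul _ w).symm.trans ?_
    exact (congrArg _ hw0).trans (map_zero _)
  have hδ : δK A (seq_shortExact M f N m) p (p + 1) rfl
      (H (A := A) p (seqMapLE (M := M) (f := f) (N := N) m d).τ₃ y) = 0 :=
    ((δK_natural (A := A) (seq_shortExact M f N (m + d)) (seq_shortExact M f N m) (seqMapLE m d) p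
      (p + 1) rfl y).trans (H_smulMod (p + 1) (B M f N) (f ^ d) z)).trans hz3
  obtain ⟨x, hx⟩ : ∃ x : Coh.HH X M p,
      H (A := A) p (seq M f N m).g x = H (A := A) p (seqMapLE (M := M) (f := f) (N := N) m d).τ₃ y :=
    (exactK₃ A (seq_shortExact M f N m) p (p + 1) rfl _).mp hδ
  refine ⟨x, ?_⟩
  have hx' : H (A := A) p (_root_.Formal.modPowπ (pr f) (N + m + 1) M) x =
      H (A := A) p (Formal2.modPowLE (pr f) (show N + m + 1 ≤ N + (m + d) + 1 by omega) M) y := hx
  rw [show _root_.Formal.modPowπ (pr f) (m + 1) M = _root_.Formal.modPowπ (pr f) (N + m + 1) M ≫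
    Formal2.modPowLE (pr f) (show m + 1 ≤ N + m + 1 by omega) M from
      (Formal2.modPowπ_modPowLE (pr f) _ M).symm, H_comp, hx', ← H_comp]
  congr 2
  rw [← cancel_epi (_root_.Formal.modPowπ (pr f) (N + (m + d) + 1) M), ← Category.assoc,
    Formal2.modPowπ_modPowLE, Formal2.modPowπ_modPowLE, Formal2.modPowπ_modPowLE]

variable {C : X.Modules → Prop} (hC : Good A C) [IsNoetherian X] [IsNoetherianRing A] {J : Ideal A}
include hC

theorem ml_step (g : A) (hJ : ML C J) : ML C (J ⊔ pr g) := by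
  intro M hM p m
  obtain ⟨N, hN⟩ := exists_mono (hC.coh hM) g
  haveI := hC.qfin hM (p + 1)
  obtain ⟨n₁, hm₁, h₁⟩ := ml_principal_aux (M := M) (f := g) (N := N) p m
  obtain ⟨n₂, hm₂, h₂⟩ := hJ (_root_.Formal.modPow (pr g) (n₁ + 1) M) (hC.modPow _ _ hM) p m
  let Q := _root_.Formal.modPow (pr g) (n₁ + 1) M
  let q : M ⟶ _root_.Formal.modPow J (n₂ + 1) Q :=
    _root_.Formal.modPowπ (pr g) (n₁ + 1) M ≫ _root_.Formal.modPowπ J (n₂ + 1) Q
  have hq : (J ⊔ pr g) ^ (n₂ + n₁ + 1 + 1) ≤ annHom q := by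
    rw [show n₂ + n₁ + 1 + 1 = (n₂ + 1) + (n₁ + 1) by omega]
    refine Ideal.sup_pow_add_le_pow_sup_pow.trans (sup_le ?_ ?_)
    · exact (le_annHom_π J (n₂ + 1) Q).trans (annHom_le_comp' _ _)
    · exact (le_annHom_π (pr g) (n₁ + 1) M).trans (annHom_le_comp _ _)
  obtain ⟨a, ha⟩ := exists_desc q hq
  obtain ⟨t, ht⟩ := exists_desc (I := J) (n := m + 1)
    (Formal2.modPowLE (pr g) (Nat.succ_le_succ hm₁) M ≫
      _root_.Formal.modPowπ J (m + 1) (_root_.Formal.modPow (pr g) (m + 1) M))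
    ((le_annHom_π J (m + 1) _).trans (annHom_le_comp' _ _))
  obtain ⟨b₁, hb₁⟩ := exists_desc (I := pr g) (_root_.Formal.modPowπ (J ⊔ pr g) (m + 1) M)
    ((Ideal.pow_right_mono le_sup_right (m + 1)).trans (le_annHom_π _ _ M))
  obtain ⟨b, hb⟩ := exists_desc (I := J) (n := m + 1) b₁ (by
    intro x hx
    rw [mem_annHom, ← cancel_epi (_root_.Formal.modPowπ (pr g) (m + 1) M), comp_zero,
      ← Category.assoc, ← smulMod_comp, Category.assoc, hb₁]
    exact le_annHom_π _ _ M (Ideal.pow_right_mono le_sup_left (m + 1) hx))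
  refine ⟨n₂ + n₁ + 1, by omega, fun y => ?_⟩
  obtain ⟨x', hx'⟩ := h₂ (H (A := A) p a y)
  obtain ⟨x, hx⟩ := h₁ x'
  refine ⟨x, ?_⟩
  rw [← hb₁, H_comp, hx, ← H_comp, ← hb, ← Category.assoc, ← ht, Category.assoc, H_comp, hx',
    ← H_comp, ← H_comp]
  congr 2
  rw [← cancel_epi (_root_.Formal.modPowπ (J ⊔ pr g) (n₂ + n₁ + 1 + 1) M), Formal2.modPowπ_modPowLE,
    ← Category.assoc, ha, Category.assoc, ← Category.assoc (_root_.Formal.modPowπ J (n₂ + 1) Q),
    Formal2.modPowπ_modPowLE, ← Category.assoc (_root_.Formal.modPowπ J (m + 1) Q), ht,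
    Category.assoc, hb, ← Category.assoc, Formal2.modPowπ_modPowLE, hb₁]

theorem ml (J : Ideal A) : ML C J := by
  obtain ⟨s, rfl⟩ := IsNoetherian.noetherian J
  classical
  induction s using Finset.induction_on with
  | empty => rw [Finset.coe_empty, Submodule.span_empty]; exact ml_bot C
  | insert g s _ ih =>
    rw [Finset.coe_insert, Submodule.span_insert, sup_comm]
    exact ml_step hC g ih

end Groth.Agent.H78.FormalFun.MittagLeffler
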