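import Groth.Agent.H78.FormalFun.Main
import Groth.Agent.Lib.ProperFin.Assembly
import Groth.Agent.Lib.ZarCoh.ProperOver
import Groth.Agent.Lib.ZarCoh.Affine
import Groth.Agent.Lib.ZarCoh.AnnIdeal
import Groth.Agent.Lib.Modules.Support
import Groth.Agent.Lib.Cyc.PP.Push

/-!
# Coherent modules with support proper over the base
-/

set_option linter.style.haveILetI false

universe u

open CategoryTheory Limits AlgebraicGeometry Opposite TopologicalSpace

namespace Groth.Agent.H78.FormalFun.ProperSupport

open Groth.Agent.Lib Groth.Agent.Lib.Devissage.Basic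

variable {A : Type u} [CommRing A] [IsNoetherianRing A] {X : Scheme.{u}}
  [X.Over (Spec (CommRingCat.of A))] [LocallyOfFiniteType (X ↘ Spec (CommRingCat.of A))]

/-- Generators for dévissage at the points of a closed subset proper over the base. -/
theorem exists_generator (F : ProperFin.Projective.Facts.{u}) {T : Set X}
    (hT : ClSub.IsProperOver (X ↘ Spec (CommRingCat.of A)) T) {y : X} (hy : y ∈ T) :
    ∃ G : X.Modules, CohIn (closure {y}) G ∧
      Module.length (X.presheaf.stalk y) (G.presheaf.stalk y) = 1 ∧ ProperFin.Finite.QFin A G := by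
  haveI : IsLocallyNoetherian X :=
    LocallyOfFiniteType.isLocallyNoetherian (X ↘ Spec (CommRingCat.of A))
  have hy' : ClSub.IsProperOver (X ↘ Spec (CommRingCat.of A)) (closure {y}) :=
    ZarCoh.ProperOver.isProperOver_of_subset _ hT isClosed_closure
      (hT.1.closure_subset_iff.mpr (Set.singleton_subset_iff.mpr hy))
  let Z := (ZarCoh.ProperOver.red (⟨closure {y}, isClosed_closure⟩ : Closeds X)).subscheme
  let i : Z ⟶ X := (ZarCoh.ProperOver.red (⟨closure {y}, isClosed_closure⟩ : Closeds X)).subschemeι
  have hrange : Set.range i = closure ({y} : Set X) := ZarCoh.ProperOver.range_red _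
  letI : Z.Over (Spec (CommRingCat.of A)) := ⟨i ≫ X ↘ Spec (CommRingCat.of A)⟩
  haveI : IsProper (Z ↘ Spec (CommRingCat.of A)) :=
    (ZarCoh.ProperOver.isProper_comp_iff _ i hrange).mpr hy'
  haveI : IsLocallyNoetherian Z := LocallyOfFiniteType.isLocallyNoetherian i
  obtain ⟨z, hz⟩ : y ∈ Set.range i := by rw [hrange]; exact subset_closure rfl
  obtain ⟨G, hG, hlen, hfin⟩ := ProperFin.Assembly.exists_generator (A := A) F z
  haveI := hG.1.1
  refine ⟨(Coh.push i).obj G, ⟨?_, fun x hx => ?_⟩, ?_, ?_⟩
  · exact Groth.Agent.Lib.Cyc.PP.Push.isCoh_push i hG.1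
  · by_contra hne
    exact hx (Cyc.SheafLen.subsingleton_push_stalk i G (closure {y}) isClosed_closure
      (fun w _ => hrange ▸ ⟨w, rfl⟩) x hne)
  · rw [← hz, Cyc.SheafLen.length_push_stalk i G z, hlen]
  · exact ProperFin.Finite.qfin_push i rfl X.isBasis_affineOpens G
      (fun W hW q => ZarCoh.Affine.HU_subsingleton G (IsAffineOpen.preimage hW i) q) hfin

/-- Coherent modules with proper support have finite cohomology. -/
theorem qfin [IsNoetherian X] (F : ProperFin.Projective.Facts.{u}) {T : Set X}
    (hT : ClSub.IsProperOver (X ↘ Spec (CommRingCat.of A)) T) {M : X.Modules} (hM : Coh.IsCoh M)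
    (hs : CohB1.support M ⊆ T) : ProperFin.Finite.QFin A M :=
  ProperFin.Devissage.devissage (ProperFin.Finite.QFin A) ⟨T, hT.1⟩ (ProperFin.Finite.thick_qfin _)
    (fun _ hy => exists_generator F hT hy) M ⟨hM, hs⟩

/-- The class of coherent modules supported in a closed subset proper over the base. -/
theorem good [IsNoetherian X] (F : ProperFin.Projective.Facts.{u}) {T : Set X}
    (hT : ClSub.IsProperOver (X ↘ Spec (CommRingCat.of A)) T) :
    Basic.Good A (fun M : X.Modules => Coh.IsCoh M ∧ CohB1.support M ⊆ T) where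
  coh h := h.1
  qfin h p := qfin F hT h.1 h.2 p
  sub φ _ h h' := ⟨h, (Modules.Support.support_subset_of_mono φ).trans h'.2⟩
  quot φ _ h h' := ⟨h, (Modules.Support.support_subset_of_epi φ).trans h'.2⟩

end Groth.Agent.H78.FormalFun.ProperSupport
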