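import Groth.Agent.H78.FormalFun.Induct

/-!
# The theorem on formal functions
-/

set_option linter.style.haveILetI false

universe u

open CategoryTheory Limits AlgebraicGeometry Opposite TopologicalSpace

namespace Groth.Agent.H78.FormalFun.Main

open Groth.Agent.Lib Groth.Agent.H78.FormalFun.Basic

variable (A : Type u) [CommRing A] [IsNoetherianRing A] (I : Ideal A) [IsAdicComplete I A]
  (X : Scheme.{u}) [X.Over (Spec (CommRingCat.of A))] [IsNoetherian X]

/-- Formal functions for a class of coherent modules with finite cohomology. -/
theorem bijective_of_good {C : X.Modules → Prop} (hC : Good A C) (M : X.Modules) (hM : C M) (p : ℕ) :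
    Function.Bijective (_root_.Formal.toHHlim I M p) := by
  obtain ⟨hinj, hsurj⟩ := Induct.ff_of_complete (J := I) hC I le_rfl M hM p
  refine ⟨(injective_iff_map_eq_zero _).mpr fun x hx => hinj x fun n => ?_, fun y => ?_⟩
  · exact congrFun (congrArg Subtype.val hx) n
  · obtain ⟨x, hx⟩ := hsurj y.1 y.2
    exact ⟨x, Subtype.ext (funext hx)⟩

/-- Formal functions when all coherent modules have finite cohomology. -/
theorem bijective_of_isCoh
    (hfin : ∀ N : X.Modules, Coh.IsCoh N → ∀ q, Module.Finite A (Coh.HH X N q))
    (M : X.Modules) (hM : Coh.IsCoh M) (p : ℕ) :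
    Function.Bijective (_root_.Formal.toHHlim I M p) :=
  bijective_of_good A I X
    { coh := fun h => h
      qfin := fun {N} h => hfin N h
      sub := fun _ _ h _ => h
      quot := fun _ _ h _ => h } M hM p

end Groth.Agent.H78.FormalFun.Main
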