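import Groth.Agent.H78.FormalFun.Principal

/-!
# The theorem on formal functions by induction on the number of generators
-/

set_option linter.style.haveILetI false

universe u

open CategoryTheory Limits AlgebraicGeometry Opposite TopologicalSpace

namespace Groth.Agent.H78.FormalFun.Induct

open Groth.Agent.Lib Groth.Agent.H78.Formal.Sections Groth.Agent.Lib.Curves.LES
open Groth.Agent.H78.FormalFun.Basic
open Groth.Agent.H78.Formal.Principal (pr smulMod_mul mem_pow exists_eq)

variable {A : Type u} [CommRing A] {X : Scheme.{u}} [X.Over (Spec (CommRingCat.of A))]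

/-- Cohomology of the modules of the class `C` is computed by their reductions modulo powers of `J`. -/
def FF (C : X.Modules → Prop) (J : Ideal A) : Prop :=
  ∀ (M : X.Modules), C M → ∀ p : ℕ,
    (∀ x : Coh.HH X M p,
      (∀ n, H (A := A) p (_root_.Formal.modPowπ J (n + 1) M) x = 0) → x = 0) ∧
    ∀ y : ∀ n, Coh.HH X (_root_.Formal.modPow J (n + 1) M) p,
      (∀ n, H (A := A) p (_root_.Formal.modPowTrans J (n + 1) M) (y (n + 1)) = y n) →
        ∃ x, ∀ n, H (A := A) p (_root_.Formal.modPowπ J (n + 1) M) x = y n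

theorem ff_bot (C : X.Modules → Prop) : FF (A := A) C ⊥ := by
  intro M _ p
  have hr : ∀ n, ∃ r : _root_.Formal.modPow (⊥ : Ideal A) (n + 1) M ⟶ M,
      _root_.Formal.modPowπ (⊥ : Ideal A) (n + 1) M ≫ r = 𝟙 M := fun n =>
    exists_desc (𝟙 M) (by rw [← Ideal.zero_eq_bot, zero_pow n.succ_ne_zero]; exact bot_le)
  choose r hr using hr
  have hr' : ∀ n, r n ≫ _root_.Formal.modPowπ (⊥ : Ideal A) (n + 1) M = 𝟙 _ := fun n => by
    rw [← cancel_epi (_root_.Formal.modPowπ (⊥ : Ideal A) (n + 1) M), ← Category.assoc, hr,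
      Category.id_comp, Category.comp_id]
  refine ⟨fun x hx => ?_, fun y hy => ⟨H (A := A) p (r 0) (y 0), ?_⟩⟩
  · have := congrArg (H (A := A) p (r 0)) (hx 0)
    rw [← H_comp, hr, map_zero] at this
    exact ((LinearMap.congr_fun (mapK_id A M p) x).symm.trans this)
  have hstep : ∀ n, _root_.Formal.modPowTrans (⊥ : Ideal A) (n + 1) M ≫ r n = r (n + 1) := fun n => by
    rw [← cancel_epi (_root_.Formal.modPowπ (⊥ : Ideal A) (n + 1 + 1) M), ← Category.assoc,
      _root_.Formal.modPowπ_trans, hr, hr]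
  have hconst : ∀ n, H (A := A) p (r n) (y n) = H (A := A) p (r 0) (y 0) := fun n => by
    induction n with
    | zero => rfl
    | succ n ih => rw [← hstep, H_comp, hy, ih]
  intro n
  rw [← hconst n, ← H_comp, hr']
  exact LinearMap.congr_fun (mapK_id A _ p) _

lemma pow_le_sup {J K : Ideal A} (m : ℕ) : ∀ k : ℕ, (J ⊔ K) ^ (m + k) ≤ J ^ m ⊔ K ^ k :=
  fun _ => Ideal.sup_pow_add_le_pow_sup_pow

variable {C : X.Modules → Prop} (hC : Good A C) [IsNoetherian X] {J : Ideal A} (f : A)
include hC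

theorem ff_step (hJ : FF C J) (hf : ∀ (P : Type u) [AddCommGroup P] [Module A P] [Module.Finite A P],
    IsAdicComplete (pr f) P) : FF C (J ⊔ pr f) := by
  intro M hM p
  obtain ⟨N, hN⟩ := exists_mono (hC.coh hM) f
  haveI : IsAdicComplete (pr f) (Coh.HH X M p) := haveI := hC.qfin hM p; hf _
  haveI : IsHausdorff (pr f) (Coh.HH X (Principal.B M f N) (p + 1)) :=
    haveI := hC.qfin (hC.sub (Abelian.image.ι (_root_.Formal.smulMod A M (f ^ (N + 1))))
      (CohBasics.Closure.isCoh_image (_root_.Formal.smulMod A M (f ^ (N + 1))) (hC.coh hM).1 (hC.coh hM))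
      hM) (p + 1)
    (hf (Coh.HH X (Principal.B M f N) (p + 1))).toIsHausdorff
  -- the double reductions
  let Q : ℕ → X.Modules := fun m => _root_.Formal.modPow (pr f) (m + 1) M
  let q : ∀ m k, M ⟶ _root_.Formal.modPow J (k + 1) (Q m) := fun m k =>
    _root_.Formal.modPowπ (pr f) (m + 1) M ≫ _root_.Formal.modPowπ J (k + 1) (Q m)
  have hq : ∀ m k, (J ⊔ pr f) ^ (k + m + 1 + 1) ≤ annHom (q m k) := by
    intro m k
    rw [show k + m + 1 + 1 = (k + 1) + (m + 1) by omega]
    refine (pow_le_sup _ _).trans (sup_le ?_ ?_)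
    · exact (le_annHom_π J (k + 1) (Q m)).trans (annHom_le_comp' _ _)
    · exact (le_annHom_π (pr f) (m + 1) M).trans (annHom_le_comp _ _)
  choose a ha using fun m k => exists_desc (q m k) (hq m k)
  have hb : ∀ n, ∃ b : _root_.Formal.modPow J (n + 1) (Q n) ⟶ _root_.Formal.modPow (J ⊔ pr f) (n + 1) M,
      q n n ≫ b = _root_.Formal.modPowπ (J ⊔ pr f) (n + 1) M := fun n => by
    obtain ⟨b₁, hb₁⟩ := exists_desc (I := pr f) (_root_.Formal.modPowπ (J ⊔ pr f) (n + 1) M)
      ((Ideal.pow_right_mono le_sup_right (n + 1)).trans (le_annHom_π _ _ M))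
    obtain ⟨b, hb⟩ := exists_desc (I := J) (n := n + 1) b₁ (by
      intro x hx
      rw [mem_annHom, ← cancel_epi (_root_.Formal.modPowπ (pr f) (n + 1) M), comp_zero,
        ← Category.assoc, ← smulMod_comp, Category.assoc, hb₁]
      exact le_annHom_π _ _ M (Ideal.pow_right_mono le_sup_left (n + 1) hx))
    exact ⟨b, by rw [Category.assoc, hb, hb₁]⟩
  choose b hb using hb
  refine ⟨fun x hx => Principal.eq_zero_of_forall (f := f) (M := M) N p x fun m => ?_, fun y hy => ?_⟩
  · refine (hJ (Q m) (hC.modPow _ _ hM) p).1 _ fun k => ?_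
    rw [← H_comp, show _root_.Formal.modPowπ (pr f) (m + 1) M ≫ _root_.Formal.modPowπ J (k + 1) (Q m) =
      _root_.Formal.modPowπ (J ⊔ pr f) (k + m + 1 + 1) M ≫ a m k from (ha m k).symm, H_comp, hx,
      map_zero]
  -- the doubly indexed family
  let z : ∀ m k, Coh.HH X (_root_.Formal.modPow J (k + 1) (Q m)) p := fun m k =>
    H (A := A) p (a m k) (y (k + m + 1))
  have hle : ∀ {n m : ℕ} (h : n ≤ m),
      H (A := A) p (Formal2.modPowLE (J ⊔ pr f) (Nat.succ_le_succ h) M) (y m) = y n := by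
    intro n m h
    induction h with
    | refl =>
      rw [show Formal2.modPowLE (J ⊔ pr f) (Nat.succ_le_succ (le_refl n)) M = 𝟙 _ by
        rw [← cancel_epi (_root_.Formal.modPowπ (J ⊔ pr f) (n + 1) M), Formal2.modPowπ_modPowLE]
        exact (Category.comp_id _).symm]
      exact LinearMap.congr_fun (mapK_id A _ p) _
    | @step m h ih =>
      have e : Formal2.modPowLE (J ⊔ pr f) (Nat.succ_le_succ (Nat.le.step h)) M =
          _root_.Formal.modPowTrans (J ⊔ pr f) (m + 1) M ≫
            Formal2.modPowLE (J ⊔ pr f) (Nat.succ_le_succ h) M := by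
        rw [← cancel_epi (_root_.Formal.modPowπ (J ⊔ pr f) (m + 1 + 1) M), Formal2.modPowπ_modPowLE,
          ← Category.assoc, _root_.Formal.modPowπ_trans, Formal2.modPowπ_modPowLE]
      rw [e, H_comp, hy, ih]
  have key : ∀ {Y : X.Modules} {n m : ℕ} (h : n ≤ m)
      (α : _root_.Formal.modPow (J ⊔ pr f) (m + 1) M ⟶ Y)
      (β : _root_.Formal.modPow (J ⊔ pr f) (n + 1) M ⟶ Y),
      _root_.Formal.modPowπ (J ⊔ pr f) (m + 1) M ≫ α = _root_.Formal.modPowπ (J ⊔ pr f) (n + 1) M ≫ β →
      H (A := A) p α (y m) = H (A := A) p β (y n) := by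
    intro Y n m h α β e
    rw [← hle h, ← H_comp]
    congr 2
    rw [← cancel_epi (_root_.Formal.modPowπ (J ⊔ pr f) (m + 1) M), e, ← Category.assoc,
      Formal2.modPowπ_modPowLE]
  have hzk : ∀ m k, H (A := A) p (_root_.Formal.modPowTrans J (k + 1) (Q m)) (z m (k + 1)) = z m k := by
    intro m k
    rw [← H_comp]
    refine key (by omega) _ _ ?_
    rw [← Category.assoc, ha, ha, Category.assoc, _root_.Formal.modPowπ_trans]
  choose xm hxm using fun m => (hJ (Q m) (hC.modPow _ _ hM) p).2 (z m) (hzk m)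
  have hxx : ∀ m, H (A := A) p (_root_.Formal.modPowTrans (pr f) (m + 1) M) (xm (m + 1)) = xm m := by
    intro m
    rw [← sub_eq_zero]
    refine (hJ (Q m) (hC.modPow _ _ hM) p).1 _ fun k => ?_
    obtain ⟨t, ht⟩ : ∃ t : _root_.Formal.modPow J (k + 1) (Q (m + 1)) ⟶ _root_.Formal.modPow J (k + 1) (Q m),
        _root_.Formal.modPowπ J (k + 1) (Q (m + 1)) ≫ t =
          _root_.Formal.modPowTrans (pr f) (m + 1) M ≫ _root_.Formal.modPowπ J (k + 1) (Q m) :=
      exists_desc _ ((le_annHom_π J (k + 1) (Q m)).trans (annHom_le_comp' _ _))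
    rw [map_sub, sub_eq_zero, hxm, ← H_comp, ← ht, H_comp, hxm, ← H_comp]
    refine key (by omega) _ _ ?_
    rw [← Category.assoc, ha, ha, Category.assoc, ht, ← Category.assoc, _root_.Formal.modPowπ_trans]
  obtain ⟨x, hx⟩ := Principal.exists_lift_of_compat (f := f) (M := M) N p xm hxx
  refine ⟨x, fun n => ?_⟩
  rw [← hb n, Category.assoc, H_comp, H_comp, hx, hxm, ← H_comp]
  refine (key (show n ≤ n + n + 1 by omega) _ (𝟙 _) ?_).trans
    (LinearMap.congr_fun (mapK_id A _ p) _)
  rw [← Category.assoc, ha, hb]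
  exact (Category.comp_id _).symm

theorem ff_of_complete [IsNoetherianRing A] (I : Ideal A) [IsAdicComplete I A] (hJI : J ≤ I) :
    FF C J := by
  obtain ⟨s, rfl⟩ := IsNoetherian.noetherian J
  classical
  induction s using Finset.induction_on with
  | empty => rw [Finset.coe_empty, Submodule.span_empty]; exact ff_bot C
  | insert g s _ ih =>
    rw [Finset.coe_insert, Submodule.span_insert] at hJI ⊢
    rw [sup_comm] at hJI ⊢
    refine ff_step hC g (ih (le_sup_left.trans hJI)) fun P _ _ _ => ?_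
    haveI : IsAdicComplete I P := Adic.Complete.isAdicComplete_of_finite
    exact H22.Completion.isAdicComplete_of_le_of_fg (I := pr g) (J := I) (le_sup_right.trans hJI)
      ⟨{g}, by rw [Finset.coe_singleton]⟩

end Groth.Agent.H78.FormalFun.Induct
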